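import Cfsg.Agent.Lib.Involutions.ZStar
import Cfsg.Agent.Lib.Involutions.Basic

/-! # Involutions commuting with none of their other conjugates -/

set_option autoImplicit false

namespace CfsgLib.CoreFree

open CfsgLib.Involutions

variable {G : Type*} [Group G] [Finite G]

/-- If no conjugate of `u` other than `u` commutes with `u`, every `[u, g]` has odd order. -/
theorem oddComm_of_commuting_eq {u : G} (hu : orderOf u = 2)
    (h : ∀ g : G, Commute u (g * u * g⁻¹) → g * u * g⁻¹ = u) : OddComm u := by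
  intro g
  rw [show u * g * u⁻¹ * g⁻¹ = u * (g * u * g⁻¹) by rw [inv_eq_self hu]; group]
  set y := g * u * g⁻¹ with hy
  have hy2 : orderOf y = 2 := (orderOf_conj g u).trans hu
  refine Nat.not_even_iff_odd.1 fun heven => ?_
  obtain ⟨m, hm⟩ := heven
  have hev : Even (orderOf (u * y)) := ⟨m, hm⟩
  have hz2 := orderOf_half hev (orderOf_pos _).ne'
  have hzc := commute_half_left hu hy2 hev
  have hhalf : orderOf (u * y) / 2 = m := by omega
  rw [hhalf] at hz2 hzc
  have hc : Commute u ((u * y) ^ m * u) := (hzc.symm).mul_right (Commute.refl u)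
  suffices ∃ d : G, d * u * d⁻¹ = (u * y) ^ m * u by
    obtain ⟨d, hd⟩ := this
    have h1 := h d (by rw [hd]; exact hc)
    rw [hd, mul_eq_right] at h1
    exact ne_one hz2 h1
  rcases Nat.even_or_odd' m with ⟨k, hk | hk⟩
  · refine ⟨(u * y) ^ (k : ℤ), ?_⟩
    rw [conj_left_by_zpow hu hy2, ← zpow_natCast (u * y) m, hk]
    push_cast; rfl
  · refine ⟨(u * y) ^ ((k : ℤ) + 1) * g, ?_⟩
    calc (u * y) ^ ((k : ℤ) + 1) * g * u * ((u * y) ^ ((k : ℤ) + 1) * g)⁻¹
        = (u * y) ^ ((k : ℤ) + 1) * y * ((u * y) ^ ((k : ℤ) + 1))⁻¹ := by rw [hy]; group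
      _ = (u * y) ^ ((k : ℤ) + 1) * ((u * y) ^ (-1 : ℤ) * u) * ((u * y) ^ ((k : ℤ) + 1))⁻¹ := by
        rw [← right_eq_zpow_mul hu hy2]
      _ = (u * y) ^ (-1 : ℤ) * ((u * y) ^ ((k : ℤ) + 1) * u * ((u * y) ^ ((k : ℤ) + 1))⁻¹) := by
        rw [← mul_assoc, ← zpow_add, add_comm, zpow_add]
        simp only [mul_assoc]
      _ = (u * y) ^ m * u := by
        rw [conj_left_by_zpow hu hy2, ← mul_assoc, ← zpow_add, ← zpow_natCast (u * y) m, hk]
        congr 2; push_cast; ring

/-- If every `[t, g]` lies in the odd core then `G = C(t) O(G)`. -/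
theorem centralizer_sup_oddCore_eq_top {t : G} (ht : orderOf t = 2)
    (h : ∀ g : G, t * g * t⁻¹ * g⁻¹ ∈ Cfsg.oddCore G) :
    Subgroup.centralizer ({t} : Set G) ⊔ Cfsg.oddCore G = ⊤ := by
  rw [eq_top_iff]
  intro g _
  set y := g * t * g⁻¹ with hy
  have hy2 : orderOf y = 2 := (orderOf_conj g t).trans ht
  have hr : t * y = t * g * t⁻¹ * g⁻¹ := by rw [hy, inv_eq_self ht]; group
  have hmem : t * y ∈ Cfsg.oddCore G := hr ▸ h g
  have hodd : Odd (orderOf (t * y)) :=
    (Cores.odd_card_oddCore (G := G)).of_dvd_nat (Subgroup.orderOf_dvd_natCard _ hmem)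
  obtain ⟨d, hd, hdt⟩ := exists_conj_eq_of_odd ht hy2 hodd
  have htC : t ∈ Subgroup.centralizer ({t} : Set G) := Subgroup.mem_centralizer_singleton_iff.2 rfl
  have hyS : y ∈ Subgroup.centralizer ({t} : Set G) ⊔ Cfsg.oddCore G := by
    rw [show y = t⁻¹ * (t * y) from (inv_mul_cancel_left t y).symm]
    exact Subgroup.mul_mem_sup (inv_mem htC) hmem
  have hdS : d ∈ Subgroup.centralizer ({t} : Set G) ⊔ Cfsg.oddCore G := by
    refine (Subgroup.closure_le _).2 ?_ hd
    rintro x (rfl | rfl)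
    · exact Subgroup.mem_sup_left htC
    · exact hyS
  have hgC : d⁻¹ * g ∈ Subgroup.centralizer ({t} : Set G) := by
    rw [Subgroup.mem_centralizer_singleton_iff]
    have e : g * t * g⁻¹ = d * t * d⁻¹ := hdt.symm
    calc d⁻¹ * g * t = d⁻¹ * (g * t * g⁻¹) * g := by group
      _ = t * (d⁻¹ * g) := by rw [e]; group
  have := mul_mem hdS (Subgroup.mem_sup_left (T := Cfsg.oddCore G) hgC)
  rwa [mul_inv_cancel_left] at this

end CfsgLib.CoreFree
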