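import Mathlib

/-! # Involutions of cyclic characteristic subgroups are isolated when Sylow intersections are central -/

set_option autoImplicit false

open scoped Pointwise

namespace CfsgLib.CoreFree

variable {G : Type*} [Group G] [Finite G]

theorem orderOf_pow_dvd {H : Type*} [Group H] {g : H} (k : ℕ) : orderOf (g ^ k) ∣ orderOf g :=
  orderOf_dvd_of_pow_eq_one (by rw [← pow_mul, mul_comm, pow_mul, pow_orderOf_eq_one, one_pow])

theorem involution_unique_of_cyclic {H : Type*} [Group H] [Finite H] [IsCyclic H] {x y : H}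
    (hx : orderOf x = 2) (hy : orderOf y = 2) : x = y := by
  obtain ⟨g, hg⟩ := IsCyclic.exists_generator (α := H)
  obtain ⟨m, rfl⟩ := (mem_powers_iff_mem_zpowers (x := g)).2 (hg x)
  obtain ⟨n, rfl⟩ := (mem_powers_iff_mem_zpowers (x := g)).2 (hg y)
  have key : ∀ k : ℕ, orderOf (g ^ k) = 2 → g ^ k = g ^ (orderOf g / 2) := by
    intro k hk
    have hgpos := orderOf_pos g
    have h1 : orderOf g ∣ 2 * k := by
      refine orderOf_dvd_of_pow_eq_one ?_
      rw [mul_comm, pow_mul, ← hk, pow_orderOf_eq_one]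
    have h2 : ¬ orderOf g ∣ k := fun h => by
      rw [orderOf_dvd_iff_pow_eq_one.1 h, orderOf_one] at hk; omega
    have h3 : 2 ∣ orderOf g := hk ▸ orderOf_pow_dvd k
    obtain ⟨t, ht⟩ := h3
    rw [ht] at h1 h2
    obtain ⟨s, hs⟩ := h1
    have hk' : k = t * s := by rw [mul_assoc] at hs; omega
    have hs2 : s % 2 = 1 := by
      by_contra hs2
      exact h2 ⟨s / 2, by rw [hk', mul_comm 2 t, mul_assoc]; congr 1; omega⟩
    rw [ht, Nat.mul_div_cancel_left t two_pos, pow_eq_pow_iff_modEq, ht, hk']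
    refine (Nat.modEq_iff_dvd' (Nat.le_mul_of_pos_right t (by omega))).2 ⟨s / 2, ?_⟩ |>.symm
    have : s = 2 * (s / 2) + 1 := by omega
    conv_lhs => rw [this]
    rw [Nat.mul_add, mul_one, Nat.add_sub_cancel]
    ring
  exact (key m hx).trans (key n hy).symm

theorem isolated_involution
    (hCI : ∀ S T : Sylow 2 G, S ≠ T → ∃ U : Sylow 2 G,
      (S : Subgroup G) ⊓ (T : Subgroup G) ≤ (Subgroup.center (U : Subgroup G)).map (U : Subgroup G).subtype)
    (S : Sylow 2 G) (C : Subgroup (S : Subgroup G)) (hCc : IsCyclic C) (hCh : C.Characteristic)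
    (c : (S : Subgroup G)) (hc : c ∈ C) (hc2 : orderOf c = 2) (g : G) (hg : g * (c : G) * g⁻¹ ∈ S) :
    g * (c : G) * g⁻¹ = c := by
  haveI := hCh
  haveI := hCc
  -- the involution is fixed by every automorphism of `S`
  have hfix : ∀ e : (S : Subgroup G) ≃* (S : Subgroup G), e c = c := by
    intro e
    have he : e c ∈ C := by
      have := Subgroup.characteristic_iff_map_le.1 hCh e ⟨c, hc, rfl⟩
      exact this
    have := involution_unique_of_cyclic (H := C) (x := ⟨e c, he⟩) (y := ⟨c, hc⟩)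
      (by rw [← Subgroup.orderOf_coe]; exact (MulEquiv.orderOf_eq e c).trans hc2)
      (by rw [← Subgroup.orderOf_coe]; exact hc2)
    exact congrArg Subtype.val this
  -- hence by every element normalizing a conjugate of `S` the corresponding conjugate is fixed
  have hN : ∀ k m : G, (∀ x : G, x ∈ (S : Subgroup G) ↔ k⁻¹ * (m * (k * x * k⁻¹) * m⁻¹) * k ∈ (S : Subgroup G)) →
      m * (k * c * k⁻¹) * m⁻¹ = k * c * k⁻¹ := by
    intro k m hkm
    let e : (S : Subgroup G) ≃* (S : Subgroup G) :=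
      { toFun := fun x => ⟨k⁻¹ * (m * (k * x * k⁻¹) * m⁻¹) * k, (hkm x).1 x.2⟩
        invFun := fun x => ⟨k⁻¹ * (m⁻¹ * (k * x * k⁻¹) * m) * k, by
          rw [hkm]
          simp [mul_assoc]⟩
        left_inv := fun x => Subtype.ext (by simp [mul_assoc])
        right_inv := fun x => Subtype.ext (by simp [mul_assoc])
        map_mul' := fun x y => Subtype.ext (by simp [mul_assoc]) }
    have h1 : k⁻¹ * (m * (k * (c : G) * k⁻¹) * m⁻¹) * k = c := congrArg Subtype.val (hfix e)
    calc m * (k * (c : G) * k⁻¹) * m⁻¹ = k * (k⁻¹ * (m * (k * (c : G) * k⁻¹) * m⁻¹) * k) * k⁻¹ := by group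
      _ = _ := by rw [h1]
  have hcen : ∀ x ∈ (S : Subgroup G), x * (c : G) = c * x := by
    intro x hx
    have := hN 1 x (fun y => by
      simp only [one_mul, inv_one, mul_one]
      exact ((S : Subgroup G).mul_mem_cancel_right ((S : Subgroup G).inv_mem hx)).trans
        ((S : Subgroup G).mul_mem_cancel_left hx) |>.symm)
    simp only [one_mul, inv_one, mul_one] at this
    exact mul_inv_eq_iff_eq_mul.1 this
  -- two conjugates of `c` central in one Sylow subgroup whose distinguished involution is the first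
  have hburn : ∀ (U : Sylow 2 G) (l g' : G), (∀ x : G, x ∈ (U : Subgroup G) ↔ l⁻¹ * x * l ∈ (S : Subgroup G)) →
      l * (c : G) * l⁻¹ = c → (∀ x ∈ (U : Subgroup G), x * (g' * c * g'⁻¹) = (g' * c * g'⁻¹) * x) →
      g' * (c : G) * g'⁻¹ = c := by
    intro U l g' hU hlc hd
    have hcU : (c : G) ∈ Subgroup.centralizer ((U : Subgroup G) : Set G) := by
      rw [Subgroup.mem_centralizer_iff]
      intro x hx
      calc x * (c : G) = l * ((l⁻¹ * x * l) * c) * l⁻¹ := by
            conv_lhs => rw [← hlc]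
            group
        _ = l * (c * (l⁻¹ * x * l)) * l⁻¹ := by rw [hcen _ ((hU x).1 hx)]
        _ = (l * c * l⁻¹) * x := by group
        _ = c * x := by rw [hlc]
    have hdU : g'⁻¹⁻¹ * (c : G) * g'⁻¹ ∈ Subgroup.centralizer ((U : Subgroup G) : Set G) := by
      rw [inv_inv, Subgroup.mem_centralizer_iff]
      exact fun x hx => hd x hx
    obtain ⟨n, hn, hn'⟩ := Sylow.conj_eq_normalizer_conj_of_mem_centralizer U (c : G) g'⁻¹ hcU hdU
    rw [inv_inv] at hn'
    rw [hn']
    have := hN l n⁻¹ (fun x => by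
      rw [← hU, inv_inv, ← Subgroup.mem_normalizer_iff''.1 hn, hU]
      simp [mul_assoc])
    rwa [hlc, inv_inv] at this
  set d := g * (c : G) * g⁻¹ with hd
  by_contra hne
  have hdc : (c : G) * d = d * c := (hcen d hg).symm
  let Cd : Subgroup G := Subgroup.centralizer {d}
  let S' : Sylow 2 G := g • S
  have hS' : ∀ x, x ∈ (S' : Subgroup G) ↔ g⁻¹ * x * g ∈ (S : Subgroup G) := by
    intro x
    show x ∈ MulAut.conj g • (S : Subgroup G) ↔ _
    rw [Subgroup.mem_pointwise_smul_iff_inv_smul_mem]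
    simp [MulAut.smul_def]
  have hS'le : (S' : Subgroup G) ≤ Cd := by
    intro x hx
    rw [Subgroup.mem_centralizer_singleton_iff, hd]
    calc x * (g * (c : G) * g⁻¹) = g * ((g⁻¹ * x * g) * c) * g⁻¹ := by group
      _ = g * (c * (g⁻¹ * x * g)) * g⁻¹ := by rw [hcen _ ((hS' x).1 hx)]
      _ = g * (c : G) * g⁻¹ * x := by group
  have hcd : (c : G) ∈ Cd := Subgroup.mem_centralizer_singleton_iff.2 hdc
  let c' : Cd := ⟨c, hcd⟩
  have hp : IsPGroup 2 (Subgroup.zpowers c') := by
    rw [IsPGroup.iff_card]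
    exact ⟨1, by rw [Nat.card_zpowers, ← Subgroup.orderOf_coe, pow_one]; exact (Subgroup.orderOf_coe c).trans hc2⟩
  obtain ⟨P, hP⟩ := hp.exists_le_sylow
  obtain ⟨m, hm⟩ := MulAction.exists_smul_eq Cd (S'.subtype hS'le) P
  let T : Sylow 2 G := ((m : G) * g) • S
  have hT : ∀ x, x ∈ (T : Subgroup G) ↔ ((m : G) * g)⁻¹ * x * ((m : G) * g) ∈ (S : Subgroup G) := by
    intro x
    show x ∈ MulAut.conj ((m : G) * g) • (S : Subgroup G) ↔ _
    rw [Subgroup.mem_pointwise_smul_iff_inv_smul_mem]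
    simp [MulAut.smul_def, mul_assoc]
  have hcT : (c : G) ∈ (T : Subgroup G) := by
    have h1 : c' ∈ (P : Subgroup Cd) := hP (Subgroup.mem_zpowers c')
    rw [← hm] at h1
    change c' ∈ MulAut.conj m • ((S' : Subgroup G).subgroupOf Cd) at h1
    rw [Subgroup.mem_pointwise_smul_iff_inv_smul_mem] at h1
    have h2 : (m : G)⁻¹ * c * m ∈ (S' : Subgroup G) := by simpa [MulAut.smul_def, Subgroup.mem_subgroupOf] using h1
    rw [hS'] at h2
    rw [hT]
    simpa [mul_assoc] using h2
  have hmd : (m : G) * g * c * ((m : G) * g)⁻¹ = d := by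
    have := Subgroup.mem_centralizer_singleton_iff.1 m.2
    calc (m : G) * g * c * ((m : G) * g)⁻¹ = (m : G) * d * (m : G)⁻¹ := by rw [hd]; group
      _ = d := by rw [this, mul_inv_cancel_right]
  have hdT : d ∈ (T : Subgroup G) := by
    rw [hT, ← hmd]
    simpa [mul_assoc] using c.2
  by_cases hST : S = T
  · refine hne (hburn T 1 g (fun x => by rw [← hST]; simp) (by simp) fun x hx => ?_)
    rw [← hd, ← hmd]
    calc x * ((m : G) * g * c * ((m : G) * g)⁻¹) = ((m : G) * g) * ((((m : G) * g)⁻¹ * x * ((m : G) * g)) * c) * ((m : G) * g)⁻¹ := by group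
      _ = ((m : G) * g) * (c * (((m : G) * g)⁻¹ * x * ((m : G) * g))) * ((m : G) * g)⁻¹ := by rw [hcen _ ((hT x).1 hx)]
      _ = _ := by group
  obtain ⟨U, hU⟩ := hCI S T hST
  have hUc : ∀ y ∈ (S : Subgroup G) ⊓ (T : Subgroup G), ∀ x ∈ (U : Subgroup G), x * y = y * x := by
    intro y hy x hx
    obtain ⟨u, hu, rfl⟩ := hU hy
    exact congrArg Subtype.val (Subgroup.mem_center_iff.1 hu ⟨x, hx⟩)
  have hUC : (U : Subgroup G) ≤ Subgroup.centralizer {(c : G)} := fun x hx =>
    Subgroup.mem_centralizer_singleton_iff.2 (hUc _ ⟨c.2, hcT⟩ x hx)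
  have hSC : (S : Subgroup G) ≤ Subgroup.centralizer {(c : G)} := fun x hx =>
    Subgroup.mem_centralizer_singleton_iff.2 (hcen x hx)
  obtain ⟨l, hl⟩ := MulAction.exists_smul_eq (Subgroup.centralizer {(c : G)}) (S.subtype hSC) (U.subtype hUC)
  refine hne (hburn U l g (fun x => ?_) ?_ fun x hx => hUc _ ⟨hg, hdT⟩ x hx)
  · have hlx : ∀ y : Subgroup.centralizer {(c : G)}, (y : G) ∈ (U : Subgroup G) ↔ (l : G)⁻¹ * y * l ∈ (S : Subgroup G) := by
      intro y
      have h1 : y ∈ ((U.subtype hUC : Sylow 2 (Subgroup.centralizer {(c : G)})) : Subgroup (Subgroup.centralizer {(c : G)})) ↔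
          (y : G) ∈ (U : Subgroup G) := Subgroup.mem_subgroupOf
      rw [← h1, ← hl]
      show y ∈ MulAut.conj l • ((S : Subgroup G).subgroupOf (Subgroup.centralizer {(c : G)})) ↔ _
      rw [Subgroup.mem_pointwise_smul_iff_inv_smul_mem]
      simp [MulAut.smul_def, Subgroup.mem_subgroupOf]
    constructor
    · intro hx
      exact (hlx ⟨x, hUC hx⟩).1 hx
    · intro hx
      have : x ∈ Subgroup.centralizer {(c : G)} := by
        have h2 := Subgroup.mul_mem _ (Subgroup.mul_mem _ l.2 (hSC hx)) (Subgroup.inv_mem _ l.2)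
        simpa [mul_assoc] using h2
      exact (hlx ⟨x, this⟩).2 hx
  · rw [Subgroup.mem_centralizer_singleton_iff.1 l.2, mul_inv_cancel_right]

end CfsgLib.CoreFree
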