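import Cfsg.Agent.Lib.SL2.Torus
import Cfsg.Agent.Lib.SL2.Normalizer
import Cfsg.Agent.Lib.CoreFree.SL2Pairs

/-! # Square roots in `(SL₂ * SL₂)⟨n⟩` with `n² = j` swapping the two factors -/

set_option autoImplicit false

open scoped MatrixGroups

namespace CfsgLib.CoreFree.Swap

variable {G : Type*} [Group G] {F : Type*} [Field F] [Finite F]

/-- The set-up: an embedded copy of `SL₂` commuting with its conjugate by `n`, meeting it in the image of the centre. -/
structure Swap (φ : SL(2, F) →* G) (n j : G) : Prop where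
  two : (2 : F) ≠ 0
  inj : Function.Injective φ
  neg : φ (-1) = j
  comm : ∀ u v, φ u * (n * φ v * n⁻¹) = n * φ v * n⁻¹ * φ u
  meet : ∀ u v, φ u = n * φ v * n⁻¹ → u = 1 ∨ u = -1
  sq : n * n = j
  jne : j ≠ 1

variable {φ : SL(2, F) →* G} {n j : G}

namespace Swap

/-- The element `(u, v)` of the central product. -/
def P (φ : SL(2, F) →* G) (n : G) (u v : SL(2, F)) : G := φ u * (n * φ v * n⁻¹)

variable (h : Swap φ n j)
include h

theorem P_mul (u v u' v' : SL(2, F)) : P φ n u v * P φ n u' v' = P φ n (u * u') (v * v') := by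
  have e := h.comm u' v
  calc φ u * (n * φ v * n⁻¹) * (φ u' * (n * φ v' * n⁻¹))
      = φ u * ((n * φ v * n⁻¹) * φ u') * (n * φ v' * n⁻¹) := by group
    _ = φ u * φ u' * (n * (φ v * φ v') * n⁻¹) := by rw [← e]; group
    _ = _ := by rw [P, map_mul, map_mul]

theorem P_one : P φ n 1 1 = 1 := by simp [P]

theorem j_comm_n : j * n = n * j := by rw [← h.sq, mul_assoc]

theorem neg_right : n * φ (-1) * n⁻¹ = j := by rw [h.neg, ← h.j_comm_n, mul_inv_cancel_right]

theorem P_neg_left (u v : SL(2, F)) : P φ n (-u) v = P φ n u (-v) := by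
  have e1 : φ (-u) = φ u * j := by rw [← h.neg, ← map_mul, mul_neg, mul_one]
  have e2 : n * φ (-v) * n⁻¹ = j * (n * φ v * n⁻¹) := by
    rw [← h.neg_right, show (-v) = -1 * v by rw [neg_mul, one_mul], map_mul]
    group
  rw [P, P, e1, e2, mul_assoc]

theorem P_eq {u v u' v' : SL(2, F)} (e : P φ n u v = P φ n u' v') :
    (u' = u ∧ v' = v) ∨ (u' = -u ∧ v' = -v) := by
  have e1 : φ (u'⁻¹ * u) = n * φ (v' * v⁻¹) * n⁻¹ := by
    rw [map_mul, map_mul, map_inv, map_inv]
    calc (φ u')⁻¹ * φ u = (φ u')⁻¹ * (φ u * (n * φ v * n⁻¹)) * (n * (φ v)⁻¹ * n⁻¹) := by group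
      _ = (φ u')⁻¹ * (φ u' * (n * φ v' * n⁻¹)) * (n * (φ v)⁻¹ * n⁻¹) := by
        change φ u * (n * φ v * n⁻¹) = φ u' * (n * φ v' * n⁻¹) at e
        rw [e]
      _ = n * (φ v' * (φ v)⁻¹) * n⁻¹ := by group
  rcases h.meet _ _ e1 with e2 | e2
  · left
    rw [e2, map_one] at e1
    have h1 : φ (v' * v⁻¹) = 1 := conj_eq_one_iff.1 e1.symm
    rw [← map_one φ] at h1
    exact ⟨(inv_mul_eq_one.1 e2), mul_inv_eq_one.1 (h.inj h1)⟩
  · right
    rw [e2, h.neg, ← h.neg_right] at e1
    have h1 : φ (-1) = φ (v' * v⁻¹) := mul_left_cancel (mul_right_cancel e1)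
    have h2 := h.inj h1
    refine ⟨?_, ?_⟩
    · have h3 : u = -u' := by rw [← mul_inv_cancel_left u' u, e2, mul_neg, mul_one]
      rw [h3, neg_neg]
    · rw [eq_mul_inv_iff_mul_eq] at h2
      rw [← h2, neg_mul, one_mul]

theorem jx : P φ n (-1) 1 = j := by simp [P, h.neg]

theorem n_conj (u v : SL(2, F)) (hc : ∀ w, j * φ w = φ w * j) : n * P φ n u v = P φ n v u * n := by
  have h1 : n * (n * φ v * n⁻¹) * n⁻¹ = φ v := by
    calc n * (n * φ v * n⁻¹) * n⁻¹ = (n * n) * φ v * (n * n)⁻¹ := by group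
      _ = φ v := by rw [h.sq, hc, mul_inv_cancel_right]
  calc n * (φ u * (n * φ v * n⁻¹)) = (n * φ u * n⁻¹) * (n * (n * φ v * n⁻¹) * n⁻¹) * n := by group
    _ = (n * φ u * n⁻¹) * φ v * n := by rw [h1]
    _ = φ v * (n * φ u * n⁻¹) * n := by rw [← h.comm v u]

omit h in
theorem neg_ne_self (h2 : (2 : F) ≠ 0) (u : SL(2, F)) : -u ≠ u := by
  intro e
  apply CfsgLib.SL2.neg_one_ne_one h2
  have := congrArg (· * u⁻¹) e
  simpa using this

theorem sq_outer (hc : ∀ w, j * φ w = φ w * j) (u v : SL(2, F)) :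
    n * P φ n u v * (n * P φ n u v) = P φ n (-(v * u)) (u * v) := by
  calc n * P φ n u v * (n * P φ n u v) = P φ n v u * (n * n) * P φ n u v := by
        rw [h.n_conj u v hc]
        calc P φ n v u * n * (P φ n v u * n) = P φ n v u * (n * P φ n v u) * n := by group
          _ = P φ n v u * (P φ n u v * n) * n := by rw [h.n_conj v u hc]
          _ = P φ n v u * P φ n u v * (n * n) := by group
          _ = P φ n v u * (n * n) * P φ n u v := by
            rw [h.sq, ← h.jx, h.P_mul, h.P_mul, h.P_mul, h.P_mul]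
            simp
    _ = _ := by rw [h.sq, ← h.jx, h.P_mul, h.P_mul]; simp

theorem card_roots_ne [Finite G] (hc : ∀ w, j * φ w = φ w * j) (a : SL(2, F)) (ha : a * a = -1)
    (w0 : SL(2, F)) (hw0 : w0 * a * w0⁻¹ = -a) :
    let K := {d : G | ∃ u v, d = P φ n u v ∨ d = n * P φ n u v}
    Set.ncard {d ∈ K | d * d = P φ n (-a) a} < Set.ncard {d ∈ K | d * d = j ∧ d * P φ n a a = P φ n a a * d} := by
  classical
  intro K
  set B := {d ∈ K | d * d = j ∧ d * P φ n a a = P φ n a a * d} with hB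
  have haat : CfsgLib.SL2.tr a ^ 2 ≠ 4 := by
    have h0 : CfsgLib.SL2.tr a = 0 := by
      have hm := CfsgLib.SL2.mul_self_eq a
      rw [← Matrix.SpecialLinearGroup.coe_mul, ha] at hm
      have hd := a.det_coe
      rw [Matrix.det_fin_two] at hd
      by_contra ht
      have h00 := congrFun (congrFun hm 0) 0
      have h01 := congrFun (congrFun hm 0) 1
      simp at h00 h01
      rcases h01 with h01 | h01
      · exact ht h01
      · have h00' := (mul_eq_zero.1 (show CfsgLib.SL2.tr a * (a : Matrix (Fin 2) (Fin 2) F) 0 0 = 0 by linear_combination -h00)).resolve_left ht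
        rw [h00', h01] at hd
        simp at hd
    rw [h0]
    intro e
    exact mul_ne_zero h.two h.two (by linear_combination -e)
  have han : a ≠ -a := fun e => neg_ne_self h.two a e.symm
  have ha1 : a ≠ 1 := fun e => by
    rw [e, one_mul] at ha; exact CfsgLib.SL2.neg_one_ne_one h.two ha.symm
  have ha1' : a ≠ -1 := fun e => by
    rw [e, neg_mul_neg, one_mul] at ha; exact CfsgLib.SL2.neg_one_ne_one h.two ha.symm
  have hcyc := CfsgLib.SL2.isCyclic_centralizer haat
  have hcommC : ∀ u v, u * a = a * u → v * a = a * v → u * v = v * u := by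
    intro u v hu hv
    obtain ⟨g, hg⟩ := hcyc.exists_generator
    obtain ⟨i, hi⟩ := Subgroup.mem_zpowers_iff.1 (hg ⟨u, Subgroup.mem_centralizer_singleton_iff.2 hu⟩)
    obtain ⟨k, hk⟩ := Subgroup.mem_zpowers_iff.1 (hg ⟨v, Subgroup.mem_centralizer_singleton_iff.2 hv⟩)
    have e1 := congrArg Subtype.val hi
    have e2 := congrArg Subtype.val hk
    simp only [SubgroupClass.coe_zpow] at e1 e2
    rw [← e1, ← e2, ← zpow_add, ← zpow_add, add_comm]
  have hroots : ∀ c, c = a ∨ c = -a → ∀ u v, u * u = c → v * v = c → v = u ∨ v = -u := by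
    intro c hc' u v hu hv
    have hua : ∀ u : SL(2, F), u * u = c → u * a = a * u := by
      intro u hu
      have : Commute u c := hu ▸ (Commute.refl u).mul_right (Commute.refl u)
      rcases hc' with rfl | rfl
      · exact this.eq
      · have e := this.eq
        rw [mul_neg, neg_mul, neg_inj] at e
        exact e
    have hcom := hcommC u v (hua u hu) (hua v hv)
    have hsq : (u⁻¹ * v) ^ 2 = 1 := by
      rw [pow_two, ((show Commute v u⁻¹ from (show Commute u v from hcom).symm.inv_right)).mul_mul_mul_comm]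
      rw [← mul_inv_rev, hu, hv, inv_mul_cancel]
    by_cases h1 : u⁻¹ * v = 1
    · exact Or.inl (inv_mul_eq_one.1 h1).symm
    · right
      rw [← mul_inv_cancel_left u v, CfsgLib.SL2.eq_neg_one_of_sq_eq_one h.two hsq h1, mul_neg, mul_one]
  -- squares in coordinates
  have hin : ∀ u v p q, P φ n u v * P φ n u v = P φ n p q → (p = u * u ∧ q = v * v) ∨ (p = -(u * u) ∧ q = -(v * v)) := by
    intro u v p q e
    rw [h.P_mul] at e
    exact h.P_eq e
  set Q := P φ n (-a) a with hQ
  have hT : Set.ncard {d ∈ K | d * d = Q} ≤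
      Set.ncard ({d : G | ∃ u v, d = P φ n u v ∧ d * d = Q}) + Set.ncard ({d : G | ∃ u, u * a = a * u ∧ ∃ v, (v = u⁻¹ * a ∨ v = -(u⁻¹ * a)) ∧ d = n * P φ n u v}) := by
    refine (Set.ncard_le_ncard ?_ (Set.toFinite _)).trans (Set.ncard_union_le _ _)
    rintro d ⟨⟨u, v, rfl | rfl⟩, hd⟩
    · exact Or.inl ⟨u, v, rfl, hd⟩
    · right
      rw [h.sq_outer hc] at hd
      rcases h.P_eq hd with ⟨e1, e2⟩ | ⟨e1, e2⟩
      · have e3 : v * u = a := (neg_inj.1 e1).symm
        have e4 : v = u⁻¹ * a := by rw [e2, inv_mul_cancel_left]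
        refine ⟨u, ?_, v, Or.inl e4, rfl⟩
        calc u * a = u * (v * u) := by rw [e3]
          _ = (u * v) * u := by group
          _ = a * u := by rw [← e2]
      · have e3 : v * u = -a := by rw [e1, neg_neg]
        have e5 : u * v = -a := by rw [e2, neg_neg]
        have e4 : v = -(u⁻¹ * a) := by rw [← mul_neg, ← e5, inv_mul_cancel_left]
        refine ⟨u, ?_, v, Or.inr e4, rfl⟩
        have : u * (-a) = (-a) * u := by rw [← e3, ← mul_assoc, e5, e3]
        simpa using this
  have hin4 : Set.ncard {d : G | ∃ u v, d = P φ n u v ∧ d * d = Q} ≤ 4 := by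
    by_cases hex : ∃ u : SL(2, F), u * u = a
    · obtain ⟨r, hr⟩ := hex
      have hr' : r⁻¹ * r⁻¹ = -a := by
        rw [← mul_inv_rev, hr]
        exact inv_eq_of_mul_eq_one_right (by rw [mul_neg, ha, neg_neg])
      have hsub : {d : G | ∃ u v, d = P φ n u v ∧ d * d = Q} ⊆
          ({P φ n r r⁻¹, P φ n r (-r⁻¹), P φ n r⁻¹ r, P φ n r⁻¹ (-r)} : Set G) := by
        rintro _ ⟨u, v, rfl, hd⟩
        simp only [Set.mem_insert_iff, Set.mem_singleton_iff]
        rcases hin u v _ _ hd with ⟨e1, e2⟩ | ⟨e1, e2⟩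
        · rcases hroots (-a) (Or.inr rfl) r⁻¹ u hr' e1.symm with rfl | rfl <;>
            rcases hroots a (Or.inl rfl) r v hr e2.symm with rfl | rfl <;>
            simp [h.P_neg_left]
        · have e1' : u * u = a := neg_inj.1 e1.symm
          have e2' : v * v = -a := by rw [e2, neg_neg]
          rcases hroots a (Or.inl rfl) r u hr e1' with e3 | e3 <;>
            rcases hroots (-a) (Or.inr rfl) r⁻¹ v hr' e2' with e4 | e4 <;>
            simp [e3, e4, h.P_neg_left]
      refine (Set.ncard_le_ncard hsub (Set.toFinite _)).trans ?_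
      exact (Set.ncard_insert_le _ _).trans (Nat.succ_le_succ ((Set.ncard_insert_le _ _).trans
        (Nat.succ_le_succ ((Set.ncard_insert_le _ _).trans (Nat.succ_le_succ (Set.ncard_singleton _).le)))))
    · have : {d : G | ∃ u v, d = P φ n u v ∧ d * d = Q} = ∅ := by
        rw [Set.eq_empty_iff_forall_notMem]
        rintro _ ⟨u, v, rfl, hd⟩
        rcases hin u v _ _ hd with ⟨e1, e2⟩ | ⟨e1, e2⟩
        · exact hex ⟨v, e2.symm⟩
        · exact hex ⟨u, neg_inj.1 e1.symm⟩
      rw [this]; simp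
  -- roots of `j`
  set Bin : Set G := {P φ n a 1, P φ n a (-1), P φ n 1 a, P φ n 1 (-a)} with hBin
  set Bc := {d : G | ∃ u, u * a = a * u ∧ ∃ v, (v = u⁻¹ ∨ v = -u⁻¹) ∧ d = n * P φ n u v} with hBc
  have hjP : ∀ d, d * d = j ↔ d * d = P φ n (-1) 1 := fun d => by rw [h.jx]
  have hj' : P φ n 1 (-1) = j := by rw [← h.P_neg_left, h.jx]
  have hBinB : ∀ d ∈ Bin, d ∈ B := by
    intro d hd
    simp only [hBin, Set.mem_insert_iff, Set.mem_singleton_iff] at hd
    rcases hd with rfl | rfl | rfl | rfl <;> refine ⟨⟨_, _, Or.inl rfl⟩, ?_, ?_⟩ <;>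
      simp [hjP, h.P_mul, ha, h.P_neg_left, hj']
  have hBout : ∀ u, (u * a = a * u ∨ u * a = -(a * u)) → ∀ v, (v = u⁻¹ ∨ v = -u⁻¹) → n * P φ n u v ∈ B := by
    intro u hua v hv
    refine ⟨⟨_, _, Or.inr rfl⟩, ?_, ?_⟩
    · rw [hjP, h.sq_outer hc]
      rcases hv with rfl | rfl
      · simp
      · simp [h.P_neg_left]
    · calc n * P φ n u v * P φ n a a = n * P φ n (u * a) (v * a) := by rw [mul_assoc, h.P_mul]
        _ = n * P φ n (a * u) (a * v) := by
          have hi : ∀ w : SL(2, F), (w * a = a * w → w⁻¹ * a = a * w⁻¹) ∧ (w * a = -(a * w) → w⁻¹ * a = -(a * w⁻¹)) := fun w =>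
            ⟨fun e => (show Commute w a from e).inv_left.eq, fun e => by
              have e' : a * w = -(w * a) := by rw [e, neg_neg]
              calc w⁻¹ * a = w⁻¹ * (a * w) * w⁻¹ := by group
                _ = -(a * w⁻¹) := by rw [e']; simp [mul_assoc]⟩
          rcases hua with e | e
          · have e' := (hi u).1 e
            rcases hv with rfl | rfl <;> simp [e, e']
          · have e' := (hi u).2 e
            rcases hv with rfl | rfl <;> simp [e, e', h.P_neg_left]
        _ = n * (P φ n a a * P φ n u v) := by rw [h.P_mul]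
        _ = P φ n a a * (n * P φ n u v) := by rw [← mul_assoc, h.n_conj a a hc, mul_assoc]
  have hw0' : w0 * a = -(a * w0) := by
    calc w0 * a = (w0 * a * w0⁻¹) * w0 := by group
      _ = -(a * w0) := by rw [hw0, neg_mul]
  have hnotin : ∀ u v u' v', n * P φ n u v ≠ P φ n u' v' := by
    intro u v u' v' e
    -- `n` would lie in the central product, but it moves `(a, 1)`
    have h1 : n = P φ n (u' * u⁻¹) (v' * v⁻¹) := by
      rw [← h.P_mul, ← e, mul_assoc, h.P_mul, mul_inv_cancel, mul_inv_cancel, h.P_one, mul_one]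
    have h2 := h.n_conj a 1 hc
    set p := u' * u⁻¹
    set q := v' * v⁻¹
    replace h2 : P φ n p q * P φ n a 1 = P φ n 1 a * P φ n p q := by rw [← h1]; exact h2
    rw [h.P_mul, h.P_mul] at h2
    rcases h.P_eq h2 with ⟨e1, e2⟩ | ⟨e1, e2⟩
    · exact ha1 (mul_left_cancel (a := p) (by rw [mul_one, ← e1, one_mul]))
    · have e1' : p = -(p * a) := by rwa [one_mul] at e1
      have : a = -1 := by
        have := congrArg (p⁻¹ * ·) e1'
        simp at this
        rw [this, neg_neg]
      exact ha1' this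
  have hw0B : n * P φ n w0 w0⁻¹ ∈ B := hBout w0 (Or.inr hw0') _ (Or.inl rfl)
  have hBin4 : Bin.ncard = 4 := by
    have hne1 : ∀ u v u' v', (u' = u ∧ v' = v → False) → (u' = -u ∧ v' = -v → False) → P φ n u v ≠ P φ n u' v' :=
      fun u v u' v' h1 h2 e => (h.P_eq e).elim h1 h2
    have hn11 := CfsgLib.SL2.neg_one_ne_one (F := F) h.two
    rw [hBin]
    refine Set.ncard_eq_four.2 ⟨_, _, _, _, ?_, ?_, ?_, ?_, ?_, ?_, rfl⟩ <;> apply hne1 <;> rintro ⟨e1, e2⟩
    · exact hn11 e2
    · exact neg_ne_self h.two a e1.symm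
    · exact ha1 e1.symm
    · exact ha1' (by rw [e1, neg_neg])
    · exact ha1 e1.symm
    · exact ha1' (by rw [e1, neg_neg])
    · exact ha1 e1.symm
    · exact ha1' (by rw [e1, neg_neg])
    · exact ha1 e1.symm
    · exact ha1' (by rw [e1, neg_neg])
    · exact han e2.symm
    · exact hn11 e1.symm
  set Tc := {d : G | ∃ u, u * a = a * u ∧ ∃ v, (v = u⁻¹ * a ∨ v = -(u⁻¹ * a)) ∧ d = n * P φ n u v} with hTc
  have hTcle : Tc.ncard ≤ Bc.ncard := by
    refine Set.ncard_le_ncard_of_injOn (fun d => d * P φ n 1 a⁻¹) ?_ (fun x _ y _ e => mul_right_cancel e) (Set.toFinite _)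
    rintro _ ⟨u, hu, v, hv, rfl⟩
    refine ⟨u, hu, v * a⁻¹, ?_, by rw [mul_assoc, h.P_mul, mul_one]⟩
    rcases hv with rfl | rfl <;> simp
  have hsub : Bin ∪ Bc ∪ {n * P φ n w0 w0⁻¹} ⊆ B := by
    rintro d ((hd | hd) | hd)
    · exact hBinB d hd
    · obtain ⟨u, hu, v, hv, rfl⟩ := hd
      exact hBout u (Or.inl hu) v hv
    · rw [Set.mem_singleton_iff.1 hd]; exact hw0B
  have hdisj : Disjoint Bin Bc := by
    rw [Set.disjoint_left]
    intro d hd
    rintro ⟨u, -, v, -, rfl⟩
    simp only [hBin, Set.mem_insert_iff, Set.mem_singleton_iff] at hd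
    rcases hd with e | e | e | e <;> exact hnotin _ _ _ _ e
  have hw0not : n * P φ n w0 w0⁻¹ ∉ Bin ∪ Bc := by
    rintro (hd | ⟨u, hu, v, -, e⟩)
    · simp only [hBin, Set.mem_insert_iff, Set.mem_singleton_iff] at hd
      rcases hd with e | e | e | e <;> exact hnotin _ _ _ _ e
    · have hcw : w0 * a = a * w0 := by
        rcases h.P_eq (mul_left_cancel e) with ⟨e1, -⟩ | ⟨e1, -⟩
        · rw [← e1]; exact hu
        · have : w0 = -u := by rw [e1, neg_neg]
          rw [this, neg_mul, hu, mul_neg]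
      rw [hw0'] at hcw
      exact neg_ne_self h.two _ hcw
  have hcount : Bin.ncard + Bc.ncard + 1 ≤ B.ncard := by
    rw [← Set.ncard_union_eq hdisj (Set.toFinite _) (Set.toFinite _), ← Set.ncard_singleton (n * P φ n w0 w0⁻¹),
      ← Set.ncard_union_eq (Set.disjoint_singleton_right.2 hw0not) (Set.toFinite _) (Set.toFinite _)]
    exact Set.ncard_le_ncard hsub (Set.toFinite _)
  omega

end Swap

end CfsgLib.CoreFree.Swap
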